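import Cfsg.Agent.H936.List12
import Cfsg.Agent.H337.HT.Num
import Cfsg.Agent.S0292
import Cfsg.Agent.S0293
import Cfsg.Agent.S0816
import Cfsg.Agent.S0817

/-!
# S3540: orthogonal groups `PΩ_{2m+1}(s)`, `PΩ⁺_{2m}(s)` have no candidate in degree `n ≥ 13`
-/

set_option autoImplicit false

universe u v

open Cfsg Cfsg.Agent.H915.LD Cfsg.Agent.H337.HT

namespace Cfsg.Agent.H576.HT

/-! ### Numbers -/

theorem pow_four_le {s : ℕ} (h : 3 ≤ s) : s ^ 4 ≤ 11 ^ (s - 1) := by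
  induction s, h using Nat.le_induction with
  | base => norm_num
  | succ s hs ih =>
    have h1 : (s + 1) ^ 4 ≤ 11 * s ^ 4 := by
      have h2 : 3 * (s + 1) ≤ 4 * s := by omega
      have h3 : (3 * (s + 1)) ^ 4 ≤ (4 * s) ^ 4 := Nat.pow_le_pow_left h2 4
      rw [mul_pow, mul_pow] at h3
      norm_num at h3
      have h4 : 256 * s ^ 4 ≤ 891 * s ^ 4 := Nat.mul_le_mul_right _ (by norm_num)
      have h5 : 81 * (s + 1) ^ 4 ≤ 81 * (11 * s ^ 4) := by
        calc 81 * (s + 1) ^ 4 ≤ 256 * s ^ 4 := h3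
          _ ≤ 891 * s ^ 4 := h4
          _ = 81 * (11 * s ^ 4) := by ring
      exact Nat.le_of_mul_le_mul_left h5 (by norm_num)
    have h6 : s + 1 - 1 = (s - 1) + 1 := by omega
    rw [h6, pow_succ]
    calc (s + 1) ^ 4 ≤ 11 * s ^ 4 := h1
      _ ≤ 11 * 11 ^ (s - 1) := Nat.mul_le_mul_left _ ih
      _ = 11 ^ (s - 1) * 11 := by ring

theorem pow_le_of {s k N : ℕ} (h : 3 ≤ s) (hN : (s - 1) * k ≤ N) : s ^ (4 * k) ≤ 11 ^ N := by
  rw [pow_mul]
  calc (s ^ 4) ^ k ≤ (11 ^ (s - 1)) ^ k := Nat.pow_le_pow_left (pow_four_le h) k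
    _ = 11 ^ ((s - 1) * k) := (pow_mul _ _ _).symm
    _ ≤ 11 ^ N := Nat.pow_le_pow_right (by norm_num) hN

theorem pow_le_two {k N : ℕ} (hN : 3 * k ≤ 10 * N) : 2 ^ k ≤ 11 ^ N := by
  have h1 : (2 ^ k) ^ 10 ≤ (11 ^ N) ^ 10 := by
    calc (2 ^ k) ^ 10 = (2 ^ 10) ^ k := by rw [← pow_mul, ← pow_mul, mul_comm]
      _ ≤ (11 ^ 3) ^ k := Nat.pow_le_pow_left (by norm_num) k
      _ = 11 ^ (3 * k) := (pow_mul _ _ _).symm
      _ ≤ 11 ^ (10 * N) := Nat.pow_le_pow_right (by norm_num) hN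
      _ = (11 ^ N) ^ 10 := by rw [← pow_mul, mul_comm]
  exact (Nat.pow_le_pow_iff_left (by norm_num)).1 h1

theorem prod_le (s k : ℕ) : ∏ i ∈ Finset.range k, (s ^ (2 * (i + 1)) - 1) ≤ s ^ (k * (k + 1)) := by
  induction k with
  | zero => simp
  | succ k ih =>
    rw [Finset.prod_range_succ]
    calc (∏ i ∈ Finset.range k, (s ^ (2 * (i + 1)) - 1)) * (s ^ (2 * (k + 1)) - 1)
        ≤ s ^ (k * (k + 1)) * s ^ (2 * (k + 1)) := Nat.mul_le_mul ih (Nat.sub_le _ _)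
      _ = s ^ ((k + 1) * (k + 1 + 1)) := by rw [← pow_add]; congr 1; ring

theorem dvd_prod {s k j : ℕ} (h : j < k) : s ^ (2 * (j + 1)) - 1 ∣ ∏ i ∈ Finset.range k, (s ^ (2 * (i + 1)) - 1) :=
  Finset.dvd_prod_of_mem (fun i => s ^ (2 * (i + 1)) - 1) (Finset.mem_range.2 h)

/-- Fermat for the small primes. -/
theorem fermat {r s : ℕ} (hr : r.Prime) (hs : ¬ r ∣ s) {j : ℕ} (hj : r - 1 ∣ j) : r ∣ s ^ j - 1 := by
  have h1 : s ^ j ≡ 1 [MOD r] := by
    have h2 : Nat.Coprime s r := ((Nat.Prime.coprime_iff_not_dvd hr).2 hs).symm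
    have h3 := Nat.ModEq.pow_totient h2
    rw [Nat.totient_prime hr] at h3
    obtain ⟨k, rfl⟩ := hj
    rw [pow_mul]
    simpa using h3.pow k
  have hpos : 1 ≤ s ^ j := by
    rcases Nat.eq_zero_or_pos s with rfl | h
    · exact absurd (dvd_zero r) hs
    · exact Nat.one_le_pow _ _ h
  exact (Nat.modEq_iff_dvd' hpos).1 h1.symm

/-- a number prime to `2, 3, 5, 7` is at least `11` -/
theorem eleven_le {N q : ℕ} (h2 : 2 ∣ N) (h3 : 3 ∣ N) (h5 : 5 ∣ N) (h7 : 7 ∣ N) (hq : 2 ≤ q) (hc : q.Coprime N) :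
    11 ≤ q := by
  by_contra hcon
  have h : ∀ r, r ∣ N → r ∣ q → r = 1 := fun r h1 h4 => Nat.eq_one_of_dvd_coprimes hc h4 h1
  have a2 := h 2 h2
  have a3 := h 3 h3
  have a5 := h 5 h5
  have a7 := h 7 h7
  interval_cases q <;> simp_all

theorem size {A n : ℕ} {T : Type u} [Group T] [Finite T] (hn : 2 ≤ n) (h2 : 2 ∣ Nat.card T) (h3 : 3 ∣ Nat.card T)
    (h5 : 5 ∣ Nat.card T) (h7 : 7 ∣ Nat.card T) (hA : Nat.card (MulAut T) ≤ A) (h : A ^ 2 ≤ 2 * 11 ^ (n - 2)) :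
    Dead n T :=
  dead_of_pow hn (fun _ hq hc => eleven_le h2 h3 h5 h7 hq hc) ((Nat.pow_le_pow_left hA 2).trans h)


/-! ### The field -/

section field

variable (K : Type) [Field K] [Fintype K]

theorem exists_char : ∃ r f : ℕ, r.Prime ∧ 1 ≤ f ∧ Fintype.card K = r ^ f ∧ CharP K r := by
  obtain ⟨r, hr⟩ := CharP.exists K
  have hrp : r.Prime := CharP.char_is_prime K r
  have := Fact.mk hrp
  obtain ⟨f, -, hf⟩ := FiniteField.card K r
  exact ⟨r, f, hrp, f.pos, hf, hr⟩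

theorem exp_le {r f s : ℕ} (hr : r.Prime) (h : s = r ^ f) : f < s := by
  rw [h]
  exact Nat.lt_pow_self hr.one_lt

end field

theorem dvd_of {r s e k j : ℕ} (hr : r.Prime) (he : e ≠ 0) (hj : j < k) (h : r - 1 ∣ 2 * (j + 1)) :
    r ∣ s ^ e * ∏ i ∈ Finset.range k, (s ^ (2 * (i + 1)) - 1) := by
  by_cases hs : r ∣ s
  · exact (dvd_pow hs he).mul_right _
  · exact ((fermat hr hs h).trans (dvd_prod hj)).mul_left _

/-! ### `PΩ_{2m+1}(s)` -/

section odd

variable {K : Type} [Field K] [Fintype K] {m : ℕ}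

theorem odd_cond {s m : ℕ} (hs : 3 ≤ s) (hm : 5 ≤ m) : (s - 1) * (m ^ 2 + m) + 3 ≤ s ^ (m - 1) := by
  obtain ⟨t, rfl⟩ : ∃ t, s = t + 3 := ⟨s - 3, by omega⟩
  induction m, hm using Nat.le_induction with
  | base =>
    norm_num
    nlinarith [Nat.zero_le t, Nat.zero_le (t ^ 2), Nat.zero_le (t ^ 3), Nat.zero_le (t ^ 4)]
  | succ m hm ih =>
    have h1 : m + 1 - 1 = (m - 1) + 1 := by omega
    rw [h1, pow_succ]
    have h2 : ((t + 3 - 1) * (m ^ 2 + m) + 3) * 3 ≤ (t + 3) ^ (m - 1) * (t + 3) :=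
      Nat.mul_le_mul ih (by omega)
    refine le_trans ?_ h2
    have h3 : (m + 1) ^ 2 + (m + 1) ≤ 3 * (m ^ 2 + m) := by nlinarith
    have h4 : (t + 3 - 1) * ((m + 1) ^ 2 + (m + 1)) ≤ (t + 3 - 1) * (3 * (m ^ 2 + m)) := Nat.mul_le_mul_left _ h3
    calc (t + 3 - 1) * ((m + 1) ^ 2 + (m + 1)) + 3 ≤ (t + 3 - 1) * (3 * (m ^ 2 + m)) + 9 := by omega
      _ = ((t + 3 - 1) * (m ^ 2 + m) + 3) * 3 := by ring

theorem aut_odd (hm : 3 ≤ m) (ho : Odd (Fintype.card K)) :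
    Nat.card (MulAut (Cfsg.POmega K (Cfsg.quadFormOdd m K))) ≤ Fintype.card K ^ (2 * m ^ 2 + m + 1) := by
  obtain ⟨r, f, hr, hf, hK, hch⟩ := exists_char K
  have := Fact.mk hr
  have hrodd : Odd r := by
    rw [hK] at ho
    exact (Nat.odd_pow_iff (by omega)).1 ho
  have h1 := Cfsg.Agent.S0816.result (F := K) r f hf hK hrodd m hm
  have h2 := Cfsg.Agent.S0292.result (F := K) rfl ho m hm
  have hfs : f ≤ Fintype.card K := (exp_le hr hK).le
  set s := Fintype.card K with hs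
  rw [h1]
  calc 2 * f * Nat.card (Cfsg.POmega K (Cfsg.quadFormOdd m K))
      = f * (2 * Nat.card (Cfsg.POmega K (Cfsg.quadFormOdd m K))) := by ring
    _ = f * (s ^ (m ^ 2) * ∏ i ∈ Finset.range m, (s ^ (2 * (i + 1)) - 1)) := by rw [h2]
    _ ≤ s * (s ^ (m ^ 2) * s ^ (m * (m + 1))) :=
        Nat.mul_le_mul hfs (Nat.mul_le_mul_left _ (prod_le s m))
    _ = s ^ (2 * m ^ 2 + m + 1) := by rw [← pow_add, ← pow_succ']; congr 1; ring

theorem odd_dvd (hm : 3 ≤ m) (ho : Odd (Fintype.card K)) {r : ℕ}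
    (hr : r = 2 ∨ r = 3 ∨ r = 5 ∨ r = 7 ∨ (r.Prime ∧ r ∣ Fintype.card K)) :
    r ∣ Nat.card (Cfsg.POmega K (Cfsg.quadFormOdd m K)) := by
  have h2 := Cfsg.Agent.S0292.result (F := K) rfl ho m hm
  set s := Fintype.card K with hs
  have hne : m ^ 2 ≠ 0 := pow_ne_zero _ (by omega)
  have key : ∀ r : ℕ, r.Prime → r ≠ 2 → r ∣ s ^ (m ^ 2) * ∏ i ∈ Finset.range m, (s ^ (2 * (i + 1)) - 1) →
      r ∣ Nat.card (Cfsg.POmega K (Cfsg.quadFormOdd m K)) := by
    intro r hr hr2 h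
    rw [← h2] at h
    rcases (Nat.Prime.dvd_mul hr).1 h with h | h
    · exact absurd ((Nat.prime_dvd_prime_iff_eq hr Nat.prime_two).1 h) hr2
    · exact h
  rcases hr with rfl | rfl | rfl | rfl | ⟨hr, hrs⟩
  · have h4 : 4 ∣ s ^ 2 - 1 := by
      obtain ⟨k, hk⟩ := ho
      rw [hk]
      refine ⟨k ^ 2 + k, ?_⟩
      have : (2 * k + 1) ^ 2 = 4 * (k ^ 2 + k) + 1 := by ring
      omega
    have h5 : s ^ 2 - 1 ∣ ∏ i ∈ Finset.range m, (s ^ (2 * (i + 1)) - 1) := dvd_prod (j := 0) (by omega)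
    have h6 : 2 * 2 ∣ 2 * Nat.card (Cfsg.POmega K (Cfsg.quadFormOdd m K)) := by
      rw [h2]
      exact (h4.trans h5).mul_left _
    exact Nat.dvd_of_mul_dvd_mul_left (by norm_num) h6
  · exact key 3 Nat.prime_three (by norm_num) (dvd_of Nat.prime_three hne (j := 0) (by omega) (by norm_num))
  · exact key 5 (by norm_num) (by norm_num) (dvd_of (by norm_num) hne (j := 1) (by omega) (by norm_num))
  · exact key 7 (by norm_num) (by norm_num) (dvd_of (by norm_num) hne (j := 2) (by omega) (by norm_num))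
  · refine key r hr ?_ ((dvd_pow hrs hne).mul_right _)
    rintro rfl
    exact (Nat.not_even_iff_odd.2 ho) (even_iff_two_dvd.2 hrs)

theorem dead_odd_size {n : ℕ} (hm : 3 ≤ m) (ho : Odd (Fintype.card K))
    (h : (Fintype.card K - 1) * (m ^ 2 + m) + 2 ≤ n) : Dead n (Cfsg.POmega K (Cfsg.quadFormOdd m K)) := by
  have h3 : 3 ≤ Fintype.card K := by
    have h6 : 1 < Fintype.card K := Fintype.one_lt_card
    obtain ⟨k, hk⟩ := ho
    omega
  refine size (by omega) (odd_dvd hm ho (by simp)) (odd_dvd hm ho (by simp)) (odd_dvd hm ho (by simp))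
    (odd_dvd hm ho (by simp)) (aut_odd hm ho) ?_
  rw [← pow_mul]
  calc Fintype.card K ^ ((2 * m ^ 2 + m + 1) * 2) ≤ Fintype.card K ^ (4 * (m ^ 2 + m)) :=
        Nat.pow_le_pow_right (by omega) (by nlinarith)
    _ ≤ 11 ^ (n - 2) := pow_le_of h3 (by omega)
    _ ≤ 2 * 11 ^ (n - 2) := by omega

theorem dead_nine_three {n : ℕ} (hK : Fintype.card K = 3) (hn : 26 ≤ n) :
    Dead n (Cfsg.POmega K (Cfsg.quadFormOdd 4 K)) := by
  have ho : Odd (Fintype.card K) := by rw [hK]; decide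
  have := Fact.mk Nat.prime_three
  have h1 := Cfsg.Agent.S0816.result (F := K) 3 1 le_rfl (by rw [hK]; norm_num) (by decide) 4 (by norm_num)
  have h2 := Cfsg.Agent.S0292.result (F := K) hK (by decide) 4 (by norm_num)
  have ho' : Nat.card (Cfsg.POmega K (Cfsg.quadFormOdd 4 K)) = 65784756654489600 := by
    norm_num [Finset.prod_range_succ] at h2
    omega
  refine sieve_dead (o := 65784756654489600) (A := 131569513308979200) (n₀ := 26) 11 20 12 ho' ?_ (by norm_num)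
    (by norm_num) (by norm_num) (by decide) (by decide) hn
  rw [h1, ho']

theorem dead_odd {n : ℕ} (hm : 3 ≤ m) (ho : Odd (Fintype.card K)) (h1 : Fintype.card K ^ 3 - 1 ≤ n)
    (h2 : ¬ (m = 3 ∧ Fintype.card K = 3) → Fintype.card K ^ (m - 1) - 1 ≤ n) :
    Dead n (Cfsg.POmega K (Cfsg.quadFormOdd m K)) := by
  have h3 : 3 ≤ Fintype.card K := by
    have h6 : 1 < Fintype.card K := Fintype.one_lt_card
    obtain ⟨k, hk⟩ := ho
    omega
  by_cases h43 : m = 4 ∧ Fintype.card K = 3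
  · obtain ⟨rfl, hK⟩ := h43
    refine dead_nine_three hK ?_
    rw [hK] at h1
    simpa using h1
  · apply dead_odd_size hm ho
    set s := Fintype.card K with hs
    rcases (show m = 3 ∨ m = 4 ∨ 5 ≤ m by omega) with rfl | rfl | h5
    · obtain ⟨t, ht⟩ : ∃ t, s = t + 3 := ⟨s - 3, by omega⟩
      rw [ht] at h1 ⊢
      have h4 : 12 * (t + 2) + 3 ≤ (t + 3) ^ 3 := by nlinarith [Nat.zero_le t, Nat.zero_le (t ^ 2), Nat.zero_le (t ^ 3)]
      have h5 : t + 3 - 1 = t + 2 := by omega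
      rw [h5]
      omega
    · have hs5 : 5 ≤ s := by
        obtain ⟨k, hk⟩ := ho
        omega
      obtain ⟨t, ht⟩ : ∃ t, s = t + 5 := ⟨s - 5, by omega⟩
      rw [ht] at h1 ⊢
      have h4 : 20 * (t + 4) + 3 ≤ (t + 5) ^ 3 := by nlinarith [Nat.zero_le t, Nat.zero_le (t ^ 2), Nat.zero_le (t ^ 3)]
      have h5 : t + 5 - 1 = t + 4 := by omega
      rw [h5]
      omega
    · have h6 := odd_cond h3 h5
      have h7 := h2 (by omega)
      omega

end odd

/-! ### `PΩ⁺_{2m}(s)` -/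

section plus

variable {K : Type} [Field K] [Fintype K] {m : ℕ}

theorem plus_cond {s m : ℕ} (hs : 3 ≤ s) (hm : 5 ≤ m) : (s - 1) * m ^ 2 + 5 ≤ s ^ (m - 1) := by
  obtain ⟨t, rfl⟩ : ∃ t, s = t + 3 := ⟨s - 3, by omega⟩
  induction m, hm using Nat.le_induction with
  | base =>
    norm_num
    nlinarith [Nat.zero_le t, Nat.zero_le (t ^ 2), Nat.zero_le (t ^ 3), Nat.zero_le (t ^ 4)]
  | succ m hm ih =>
    have h1 : m + 1 - 1 = (m - 1) + 1 := by omega
    rw [h1, pow_succ]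
    have h2 : ((t + 3 - 1) * m ^ 2 + 5) * 3 ≤ (t + 3) ^ (m - 1) * (t + 3) :=
      Nat.mul_le_mul ih (by omega)
    refine le_trans ?_ h2
    have h3 : (m + 1) ^ 2 ≤ 3 * m ^ 2 := by nlinarith
    have h4 : (t + 3 - 1) * (m + 1) ^ 2 ≤ (t + 3 - 1) * (3 * m ^ 2) := Nat.mul_le_mul_left _ h3
    calc (t + 3 - 1) * (m + 1) ^ 2 + 5 ≤ (t + 3 - 1) * (3 * m ^ 2) + 15 := by omega
      _ = ((t + 3 - 1) * m ^ 2 + 5) * 3 := by ring

theorem plus_cond_two {m : ℕ} (hm : 7 ≤ m) : 3 * (4 * m ^ 2 + 2) + 50 ≤ 10 * 2 ^ (m - 1) + 6 * m := by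
  induction m, hm using Nat.le_induction with
  | base => norm_num
  | succ m hm ih =>
    have h1 : m + 1 - 1 = (m - 1) + 1 := by omega
    have h6 : 2 ^ (m - 1 + 1) = 2 * 2 ^ (m - 1) := by ring
    rw [h1, h6]
    have h4 : (m + 1) ^ 2 = m ^ 2 + 2 * m + 1 := by ring
    have h5 : 30 * m ≤ 12 * m ^ 2 := by nlinarith
    rw [h4]
    omega

theorem card_plus (hm : 4 ≤ m) : ∃ c, Fintype.card K ^ m - 1 = Nat.gcd 4 (Fintype.card K ^ m - 1) * c ∧
    Nat.card (Cfsg.POmega K (Cfsg.quadFormPlus m K)) =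
      c * (Fintype.card K ^ (m * (m - 1)) * ∏ i ∈ Finset.range (m - 1), (Fintype.card K ^ (2 * (i + 1)) - 1)) := by
  have h2 := Cfsg.Agent.S0293.result (F := K) rfl m hm
  obtain ⟨c, hc⟩ := Nat.gcd_dvd_right 4 (Fintype.card K ^ m - 1)
  refine ⟨c, hc, ?_⟩
  have hpos : 0 < Nat.gcd 4 (Fintype.card K ^ m - 1) := Nat.gcd_pos_of_pos_left _ (by norm_num)
  apply Nat.eq_of_mul_eq_mul_left hpos
  rw [h2]
  generalize Nat.gcd 4 (Fintype.card K ^ m - 1) = g at hc
  rw [hc]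
  ring

theorem plus_dvd (hm : 4 ≤ m) {r : ℕ} (hr : r = 2 ∨ r = 3 ∨ r = 5 ∨ r = 7 ∨ (r.Prime ∧ r ∣ Fintype.card K)) :
    r ∣ Nat.card (Cfsg.POmega K (Cfsg.quadFormPlus m K)) := by
  obtain ⟨c, -, h⟩ := card_plus (K := K) hm
  rw [h]
  apply Dvd.dvd.mul_left
  have hne : m * (m - 1) ≠ 0 := Nat.mul_ne_zero (by omega) (by omega)
  rcases hr with rfl | rfl | rfl | rfl | ⟨hr, hrs⟩
  · exact dvd_of Nat.prime_two hne (j := 0) (by omega) (by norm_num)
  · exact dvd_of Nat.prime_three hne (j := 0) (by omega) (by norm_num)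
  · exact dvd_of (by norm_num) hne (j := 1) (by omega) (by norm_num)
  · exact dvd_of (by norm_num) hne (j := 2) (by omega) (by norm_num)
  · exact (dvd_pow hrs hne).mul_right _

theorem aut_plus (hm : 4 ≤ m) :
    Nat.card (MulAut (Cfsg.POmega K (Cfsg.quadFormPlus m K))) ≤ 12 * Fintype.card K ^ (2 * m ^ 2 - m + 1) := by
  obtain ⟨r, f, hr, hf, hK, hch⟩ := exists_char K
  have := Fact.mk hr
  have h1 := Cfsg.Agent.S0817.result (F := K) r f hf hK m hm
  obtain ⟨c, hc, h2⟩ := card_plus (K := K) hm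
  have hfs : 2 * f ≤ Fintype.card K := by
    rw [hK]
    have h3 : 2 * f ≤ 2 ^ f := by
      obtain ⟨g, rfl⟩ : ∃ g, f = g + 1 := ⟨f - 1, by omega⟩
      have h4 : g < 2 ^ g := Nat.lt_pow_self (by norm_num)
      rw [pow_succ]
      omega
    exact h3.trans (Nat.pow_le_pow_left hr.two_le f)
  have hcs : c ≤ Fintype.card K ^ m := by
    have hpos : 0 < Nat.gcd 4 (Fintype.card K ^ m - 1) := Nat.gcd_pos_of_pos_left _ (by norm_num)
    calc c ≤ Nat.gcd 4 (Fintype.card K ^ m - 1) * c := Nat.le_mul_of_pos_left c hpos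
      _ = Fintype.card K ^ m - 1 := hc.symm
      _ ≤ _ := Nat.sub_le _ _
  set s := Fintype.card K with hs
  have hT : Nat.card (Cfsg.POmega K (Cfsg.quadFormPlus m K)) ≤ s ^ (2 * m ^ 2 - m) := by
    rw [h2]
    calc c * (s ^ (m * (m - 1)) * ∏ i ∈ Finset.range (m - 1), (s ^ (2 * (i + 1)) - 1))
        ≤ s ^ m * (s ^ (m * (m - 1)) * s ^ ((m - 1) * (m - 1 + 1))) :=
          Nat.mul_le_mul hcs (Nat.mul_le_mul_left _ (prod_le s _))
      _ = s ^ (2 * m ^ 2 - m) := by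
          rw [← pow_add, ← pow_add]
          congr 1
          obtain ⟨k, rfl⟩ : ∃ k, m = k + 1 := ⟨m - 1, by omega⟩
          have h3 : k + 1 - 1 = k := rfl
          rw [h3]
          have h4 : 2 * (k + 1) ^ 2 = (k + 1 + ((k + 1) * k + k * (k + 1))) + (k + 1) := by ring
          omega
  have hfac : (if m = 4 then 3 else 1) * (if r = 2 then 2 else (if Even (m * (r ^ f - 1) / 2) then 8 else 4)) ≤ 24 := by
    split_ifs <;> norm_num
  rw [h1]
  calc (if m = 4 then 3 else 1) * (if r = 2 then 2 else (if Even (m * (r ^ f - 1) / 2) then 8 else 4)) * f *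
        Nat.card (Cfsg.POmega K (Cfsg.quadFormPlus m K))
      ≤ 24 * f * s ^ (2 * m ^ 2 - m) := Nat.mul_le_mul (Nat.mul_le_mul_right f hfac) hT
    _ = 12 * ((2 * f) * s ^ (2 * m ^ 2 - m)) := by ring
    _ ≤ 12 * (s * s ^ (2 * m ^ 2 - m)) := Nat.mul_le_mul_left _ (Nat.mul_le_mul_right _ hfs)
    _ = 12 * s ^ (2 * m ^ 2 - m + 1) := by rw [pow_succ]; ring

theorem plus_bound {A N s e : ℕ} (hA : A ≤ 12 * s ^ e) (hN : 2 ≤ N) (h : s ^ (2 * e) ≤ 11 ^ (N - 2)) :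
    A ^ 2 ≤ 2 * 11 ^ N := by
  calc A ^ 2 ≤ (12 * s ^ e) ^ 2 := Nat.pow_le_pow_left hA 2
    _ = 144 * s ^ (2 * e) := by rw [mul_pow, ← pow_mul]; norm_num; ring_nf
    _ ≤ 144 * 11 ^ (N - 2) := Nat.mul_le_mul_left _ h
    _ ≤ 242 * 11 ^ (N - 2) := Nat.mul_le_mul_right _ (by norm_num)
    _ = 2 * 11 ^ N := by
        obtain ⟨k, rfl⟩ : ∃ k, N = k + 2 := ⟨N - 2, by omega⟩
        rw [Nat.add_sub_cancel, pow_add]
        ring

theorem dead_plus_size {n : ℕ} (hm : 4 ≤ m) (hn : 4 ≤ n)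
    (h : Fintype.card K ^ (2 * (2 * m ^ 2 - m + 1)) ≤ 11 ^ (n - 2 - 2)) :
    Dead n (Cfsg.POmega K (Cfsg.quadFormPlus m K)) :=
  size (A := Nat.card (MulAut (Cfsg.POmega K (Cfsg.quadFormPlus m K)))) (by omega) (plus_dvd hm (by simp))
    (plus_dvd hm (by simp)) (plus_dvd hm (by simp)) (plus_dvd hm (by simp)) le_rfl
    (plus_bound (aut_plus hm) (by omega) h)

theorem sieve_plus {n m s o A n₀ : ℕ} (hs : Fintype.card K = s) (fq fn : ℕ) (hm : 4 ≤ m)
    (ho : Nat.gcd 4 (s ^ m - 1) * o = s ^ (m * (m - 1)) * (s ^ m - 1) * ∏ i ∈ Finset.range (m - 1), (s ^ (2 * (i + 1)) - 1))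
    (r f : ℕ) (hr : r.Prime) (hf : 1 ≤ f) (hK : s = r ^ f)
    (hA : (if m = 4 then 3 else 1) * (if r = 2 then 2 else (if Even (m * (r ^ f - 1) / 2) then 8 else 4)) * f * o = A)
    (hA0 : 0 < A) (hn₀ : 2 ≤ n₀) (h1 : (List.range 11).all (fun q => Nat.ble q 1 || Nat.ble 2 (Nat.gcd q o)) = true)
    (h : loopN o A 11 fq fn n₀ = true) (hn : n₀ ≤ n) : Dead n (Cfsg.POmega K (Cfsg.quadFormPlus m K)) := by
  have := Fact.mk hr
  have h2 := Cfsg.Agent.S0293.result (F := K) hs m hm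
  have hpos : 0 < Nat.gcd 4 (s ^ m - 1) := Nat.gcd_pos_of_pos_left _ (by norm_num)
  have ho' : Nat.card (Cfsg.POmega K (Cfsg.quadFormPlus m K)) = o :=
    Nat.eq_of_mul_eq_mul_left hpos (h2.trans ho.symm)
  have h3 := Cfsg.Agent.S0817.result (F := K) r f hf (hs.trans hK) m hm
  refine sieve_dead 11 fq fn ho' ?_ hA0 (by norm_num) hn₀ h1 h hn
  rw [h3, ho', hA]

theorem dead_plus {n : ℕ} (hm : 4 ≤ m) (hn : 13 ≤ n)
    (h1 : ¬ (m = 4 ∧ Fintype.card K = 2) → Fintype.card K ^ 3 - 1 ≤ n)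
    (h2 : ¬ (m = 4 ∧ Fintype.card K = 2) → Fintype.card K ^ (m - 1) - 1 ≤ n) :
    Dead n (Cfsg.POmega K (Cfsg.quadFormPlus m K)) := by
  have h6 : 1 < Fintype.card K := Fintype.one_lt_card
  rcases (show Fintype.card K = 2 ∨ 3 ≤ Fintype.card K by omega) with hK | hK
  · rcases (show m = 4 ∨ m = 5 ∨ m = 6 ∨ 7 ≤ m by omega) with rfl | rfl | rfl | h7
    · exact sieve_plus (o := 174182400) (A := 1045094400) (n₀ := 13) hK 40 12 (by norm_num) (by decide) 2 1
        Nat.prime_two le_rfl (by norm_num) (by decide) (by norm_num) (by norm_num) (by decide) (by decide) hn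
    · have h3 := h2 (by omega)
      rw [hK] at h3
      exact sieve_plus (o := 23499295948800) (A := 46998591897600) (n₀ := 15) hK 150 20 (by norm_num) (by decide) 2 1
        Nat.prime_two le_rfl (by norm_num) (by decide) (by norm_num) (by norm_num) (by decide) (by decide) h3
    · have h3 := h2 (by omega)
      rw [hK] at h3
      exact sieve_plus (o := 50027557148216524800) (A := 100055114296433049600) (n₀ := 31) hK 100 20 (by norm_num)
        (by decide) 2 1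
        Nat.prime_two le_rfl (by norm_num) (by decide) (by norm_num) (by norm_num) (by decide) (by decide) h3
    · have h3 := h2 (by omega)
      refine dead_plus_size hm (by omega) ?_
      rw [hK] at h3 ⊢
      apply pow_le_two
      have h4 := plus_cond_two h7
      have h5 : m ≤ 2 * m ^ 2 := by nlinarith
      omega
  · rcases (show m = 4 ∨ 5 ≤ m by omega) with rfl | h5
    · have h3 := h1 (by omega)
      rcases (show Fintype.card K = 3 ∨ 4 ≤ Fintype.card K by omega) with hK3 | hK4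
      · rw [hK3] at h3
        exact sieve_plus (o := 4952179814400) (A := 118852315545600) (n₀ := 26) hK3 40 12 (by norm_num) (by decide) 3 1
          Nat.prime_three le_rfl (by norm_num) (by decide) (by norm_num) (by norm_num) (by decide) (by decide)
          (by simpa using h3)
      · refine dead_plus_size le_rfl (by omega) ?_
        set s := Fintype.card K with hs
        obtain ⟨t, ht⟩ : ∃ t, s = t + 4 := ⟨s - 4, by omega⟩
        have h7 : 15 * (t + 3) + 5 ≤ (t + 4) ^ 3 := by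
          nlinarith [Nat.zero_le t, Nat.zero_le (t ^ 2), Nat.zero_le (t ^ 3)]
        have h8 : s ^ (2 * (2 * 4 ^ 2 - 4 + 1)) ≤ s ^ (4 * 15) := Nat.pow_le_pow_right (by omega) (by norm_num)
        refine h8.trans (pow_le_of hK ?_)
        rw [ht] at h3 ⊢
        have h9 : t + 4 - 1 = t + 3 := by omega
        rw [h9]
        omega
    · have h3 := h2 (by omega)
      refine dead_plus_size hm (by omega) ?_
      set s := Fintype.card K with hs
      have h7 := plus_cond hK h5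
      have h8 : s ^ (2 * (2 * m ^ 2 - m + 1)) ≤ s ^ (4 * m ^ 2) := by
        apply Nat.pow_le_pow_right (by omega)
        have h5 : m ≤ 2 * m ^ 2 := by nlinarith
        omega
      refine h8.trans (pow_le_of hK ?_)
      omega

end plus

section main

variable {F : Type u} [Field F] [Finite F] {n p : ℕ} [Fact p.Prime] [CharP F p]
  {P : Subgroup (Matrix.GeneralLinearGroup (Fin n) F)}

open Cfsg.Agent.H936.List12 Cfsg.Agent.H912.Bd

/-- **B4** -/
theorem dead_omega_odd (hC : Core P) (_hn : 13 ≤ n) (hp : ¬ p ∣ Nat.card (Soc P)) (hT : Cfsg.IsPOmegaOdd (Soc P)) :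
    Dead n (Soc P) := by
  obtain ⟨K, _, _, m, hm, ho, ⟨e⟩⟩ := hT
  obtain ⟨r, f, hr, hf, hK, hch⟩ := exists_char K
  have hrs : r ∣ Fintype.card K := by rw [hK]; exact dvd_pow_self r (by omega)
  have hcard : Nat.card (Soc P) = Nat.card (Cfsg.POmega K (Cfsg.quadFormOdd m K)) := Nat.card_congr e.toEquiv
  have hrp : r ≠ p := by
    rintro rfl
    exact hp (by rw [hcard]; exact odd_dvd hm ho (Or.inr (Or.inr (Or.inr (Or.inr ⟨hr, hrs⟩)))))
  have hrF : (r : F) ≠ 0 := cast_ne hr hrp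
  refine Dead.congr e.symm ?_
  by_cases h33 : m = 3 ∧ Fintype.card K = 3
  · obtain ⟨rfl, hK3⟩ := h33
    have hr3 : r = 3 := by
      have h : r ∣ 3 := by rw [← hK3]; exact hrs
      exact (Nat.prime_dvd_prime_iff_eq hr Nat.prime_three).1 h
    subst hr3
    have h26 := le_of_ls' hC hrF (H95.LSx.ls_o73 hK3) ⟨e⟩
    refine dead_odd hm ho (by rw [hK3]; norm_num; exact h26) (fun h => absurd ⟨rfl, hK3⟩ h)
  · have hN : NoR.{u} r (Cfsg.POmega K (Cfsg.quadFormOdd m K)) := by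
      refine NoR.of_cyclic (S2094.result (F := K) rfl ho m hm h33) ?_
      rw [Nat.coprime_two_left]
      exact Odd.of_dvd_nat ho hrs
    exact dead_odd hm ho (le_of_bd hC (bd_pomega_odd_cube hr hrF hch hm) hN ⟨e⟩)
      (fun _ => le_of_bd hC (bd_pomega_odd_sl hr hrF hch hm) hN ⟨e⟩)

theorem noR_plus {K : Type} [Field K] [Fintype K] {r m : ℕ} (hr : r.Prime) (hd : r ∣ Fintype.card K) (hm : 4 ≤ m)
    (hexc : ¬ (m = 4 ∧ Fintype.card K = 2)) : NoR.{u} r (Cfsg.POmega K (Cfsg.quadFormPlus m K)) := by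
  have hdm : r ∣ Fintype.card K ^ m := dvd_pow hd (by omega)
  have hpos : 0 < Fintype.card K ^ m := pow_pos Fintype.card_pos _
  rcases Nat.even_or_odd m with hev | hod
  · refine NoR.of_mult (S2097.result (F := K) rfl m hm hev hexc) ?_
    rw [Nat.card_congr Multiplicative.toAdd, Nat.card_prod, Nat.card_zmod]
    have h1 : (Nat.gcd 2 (Fintype.card K ^ m - 1)).Coprime r := coprime_gcd_sub hr hpos hdm
    exact Nat.Coprime.mul_left h1 h1
  · have h5 : 5 ≤ m := by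
      by_contra hcon
      have h4 : m = 4 := by omega
      rw [h4] at hod
      exact absurd hod (by decide)
    exact NoR.of_cyclic (S2096.result (F := K) rfl m h5 hod) (coprime_gcd_sub hr hpos hdm)

/-- **B5** -/
theorem dead_omega_plus (hC : Core P) (hn : 13 ≤ n) (hp : ¬ p ∣ Nat.card (Soc P)) (hT : Cfsg.IsPOmegaPlus (Soc P)) :
    Dead n (Soc P) := by
  obtain ⟨K, iK, iKf, m, hm, ⟨e⟩⟩ := hT
  obtain ⟨r, f, hr, hf, hK, hch⟩ := exists_char K
  have hrs : r ∣ Fintype.card K := by rw [hK]; exact dvd_pow_self r (by omega)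
  have hcard : Nat.card (Soc P) = Nat.card (Cfsg.POmega K (Cfsg.quadFormPlus m K)) := Nat.card_congr e.toEquiv
  have hrp : r ≠ p := by
    rintro rfl
    exact hp (by rw [hcard]; exact plus_dvd hm (Or.inr (Or.inr (Or.inr (Or.inr ⟨hr, hrs⟩)))))
  have hrF : (r : F) ≠ 0 := cast_ne hr hrp
  refine Dead.congr e.symm ?_
  have hN : ¬ (m = 4 ∧ Fintype.card K = 2) → NoR.{u} r (Cfsg.POmega K (Cfsg.quadFormPlus m K)) :=
    fun h => noR_plus hr hrs hm h
  exact dead_plus hm hn (fun h => le_of_bd hC (bd_pomega_plus_cube hr hrF hch (by omega)) (hN h) ⟨e⟩)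
    (fun h => le_of_bd hC (bd_pomega_plus_sl hr hrF hch (by omega)) (hN h) ⟨e⟩)

end main

end Cfsg.Agent.H576.HT
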