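import Cfsg.Agent.H576.HT.Omega
import Cfsg.Agent.H337.HT.NumP
import Cfsg.Agent.H337.HT.TabP

/-!
# S3512: orthogonal groups `PΩ_{2m+1}(s)`, `PΩ⁺_{2m}(s)` have no candidate in degree `n ≥ 13`, `p ∣ |T|`, `p ≠ r`
-/

set_option autoImplicit false

universe u v

open Cfsg Cfsg.Agent.H915.LD Cfsg.Agent.H337.HT

namespace Cfsg.Agent.H576.HT

/-! ### Numbers -/

theorem sq_le_two {s : ℕ} (h : 4 ≤ s) : s ^ 2 ≤ 2 ^ s := by
  induction s, h using Nat.le_induction with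
  | base => norm_num
  | succ s hs ih =>
    have h1 : 2 ^ (s + 1) = 2 * 2 ^ s := by ring
    rw [h1]
    nlinarith

theorem sq_le_two' {s : ℕ} (h : 3 ≤ s) : s ^ 2 ≤ 2 ^ (s + 1) := by
  rcases (show s = 3 ∨ 4 ≤ s by omega) with rfl | h4
  · norm_num
  · exact (sq_le_two h4).trans (Nat.pow_le_pow_right (by norm_num) (by omega))

theorem pow_le_A {s e N : ℕ} (h : 4 ≤ s) (hN : s * e ≤ N) : s ^ (2 * e) ≤ 2 ^ N := by
  rw [pow_mul]
  calc (s ^ 2) ^ e ≤ (2 ^ s) ^ e := Nat.pow_le_pow_left (sq_le_two h) e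
    _ = 2 ^ (s * e) := (pow_mul _ _ _).symm
    _ ≤ 2 ^ N := Nat.pow_le_pow_right (by norm_num) hN

theorem pow_le_B {s e N : ℕ} (h : 3 ≤ s) (hN : (s + 1) * e ≤ N) : s ^ (2 * e) ≤ 2 ^ N := by
  rw [pow_mul]
  calc (s ^ 2) ^ e ≤ (2 ^ (s + 1)) ^ e := Nat.pow_le_pow_left (sq_le_two' h) e
    _ = 2 ^ ((s + 1) * e) := (pow_mul _ _ _).symm
    _ ≤ 2 ^ N := Nat.pow_le_pow_right (by norm_num) hN

theorem pow_le_C {k N : ℕ} (hN : 2 * k ≤ 3 * N) : 2 ^ k ≤ 3 ^ N := by
  have h1 : (2 ^ k) ^ 3 ≤ (3 ^ N) ^ 3 := by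
    calc (2 ^ k) ^ 3 = (2 ^ 3) ^ k := by rw [← pow_mul, ← pow_mul, mul_comm]
      _ ≤ (3 ^ 2) ^ k := Nat.pow_le_pow_left (by norm_num) k
      _ = 3 ^ (2 * k) := (pow_mul _ _ _).symm
      _ ≤ 3 ^ (3 * N) := Nat.pow_le_pow_right (by norm_num) hN
      _ = (3 ^ N) ^ 3 := by rw [← pow_mul, mul_comm]
  exact (Nat.pow_le_pow_iff_left (by norm_num)).1 h1

/-! ### `PΩ_{2m+1}(s)` -/

section odd

variable {K : Type} [Field K] [Fintype K] {m : ℕ}

theorem deadP_odd_size {n p : ℕ} (hp : p.Prime) (hm : 3 ≤ m) (ho : Odd (Fintype.card K)) (hn : 2 ≤ n)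
    (h : 2 * Fintype.card K ^ (2 * (2 * m ^ 2 + m + 1)) ≤ 2 ^ (n - 2)) :
    DeadP p n (Cfsg.POmega K (Cfsg.quadFormOdd m K)) := by
  refine deadP_of_pow (b := 2) (A := Fintype.card K ^ (2 * m ^ 2 + m + 1)) hp hn hp.two_le (aut_odd hm ho)
    Nat.card_pos ?_
  rw [← pow_mul, mul_comm (2 * m ^ 2 + m + 1) 2]
  exact h

theorem sieve_oddP {n p m s o A n₀ : ℕ} (hs : Fintype.card K = s) (ho : Odd s) (hm : 3 ≤ m)
    (hc : 2 * o = s ^ (m ^ 2) * ∏ i ∈ Finset.range m, (s ^ (2 * (i + 1)) - 1))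
    (r f : ℕ) (hr : r.Prime) (hf : 1 ≤ f) (hK : s = r ^ f) (hA : 2 * f * o = A) (ps : List ℕ)
    (hps : ∀ t ∈ r :: ps, t.Prime) (h : chkP r ps o A n₀ = true) (hp : p.Prime)
    (hd : p ∣ Nat.card (Cfsg.POmega K (Cfsg.quadFormOdd m K))) (hpr : p ≠ r) (hn : n₀ ≤ n) :
    DeadP p n (Cfsg.POmega K (Cfsg.quadFormOdd m K)) := by
  have := Fact.mk hr
  have hro : Odd r := by
    rw [hK] at ho
    exact (Nat.odd_pow_iff (by omega)).1 ho
  have h1 := Cfsg.Agent.S0816.result (F := K) r f hf (hs.trans hK) hro m hm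
  have h2 := Cfsg.Agent.S0292.result (F := K) hs ho m hm
  have ho' : Nat.card (Cfsg.POmega K (Cfsg.quadFormOdd m K)) = o := by
    rw [← hc] at h2
    omega
  refine deadP_sieve r ps ho' ?_ hps h hp hd hpr hn
  rw [h1, ho', hA]

theorem odd_condP {s m : ℕ} (hs : 3 ≤ s) (hm : 7 ≤ m) : (s + 1) * (2 * m ^ 2 + m + 1) + 4 ≤ s ^ (m - 1) := by
  obtain ⟨t, rfl⟩ : ∃ t, s = t + 3 := ⟨s - 3, by omega⟩
  induction m, hm using Nat.le_induction with
  | base =>
    norm_num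
    nlinarith [Nat.zero_le t, Nat.zero_le (t ^ 2), Nat.zero_le (t ^ 3), Nat.zero_le (t ^ 4), Nat.zero_le (t ^ 5),
      Nat.zero_le (t ^ 6)]
  | succ m hm ih =>
    have h1 : m + 1 - 1 = (m - 1) + 1 := by omega
    rw [h1, pow_succ]
    have h2 : ((t + 3 + 1) * (2 * m ^ 2 + m + 1) + 4) * 3 ≤ (t + 3) ^ (m - 1) * (t + 3) :=
      Nat.mul_le_mul ih (by omega)
    refine le_trans ?_ h2
    have h3 : 2 * (m + 1) ^ 2 + (m + 1) + 1 ≤ 3 * (2 * m ^ 2 + m + 1) := by nlinarith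
    have h4 : (t + 3 + 1) * (2 * (m + 1) ^ 2 + (m + 1) + 1) ≤ (t + 3 + 1) * (3 * (2 * m ^ 2 + m + 1)) :=
      Nat.mul_le_mul_left _ h3
    calc (t + 3 + 1) * (2 * (m + 1) ^ 2 + (m + 1) + 1) + 4
        ≤ (t + 3 + 1) * (3 * (2 * m ^ 2 + m + 1)) + 12 := by omega
      _ = ((t + 3 + 1) * (2 * m ^ 2 + m + 1) + 4) * 3 := by ring

theorem two_mul_le {a N : ℕ} (hN : 1 ≤ N) (h : a ≤ 2 ^ (N - 1)) : 2 * a ≤ 2 ^ N := by
  obtain ⟨k, rfl⟩ : ∃ k, N = k + 1 := ⟨N - 1, by omega⟩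
  rw [Nat.add_sub_cancel] at h
  rw [pow_succ]
  omega

theorem deadP_odd {n p : ℕ} (hp : p.Prime) (hd : p ∣ Nat.card (Cfsg.POmega K (Cfsg.quadFormOdd m K)))
    (hpr : ∀ r, r.Prime → r ∣ Fintype.card K → p ≠ r) (hm : 3 ≤ m) (ho : Odd (Fintype.card K))
    (h1 : Fintype.card K ^ 3 - 1 ≤ n)
    (h2 : ¬ (m = 3 ∧ Fintype.card K = 3) → Fintype.card K ^ (m - 1) - 1 ≤ n) :
    DeadP p n (Cfsg.POmega K (Cfsg.quadFormOdd m K)) := by
  have h3 : 3 ≤ Fintype.card K := by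
    have h6 : 1 < Fintype.card K := Fintype.one_lt_card
    obtain ⟨k, hk⟩ := ho
    omega
  rcases (show Fintype.card K = 3 ∨ 5 ≤ Fintype.card K by
    obtain ⟨k, hk⟩ := ho
    omega) with hK | hK
  · -- `s = 3`
    have hp3 : p ≠ 3 := hpr 3 Nat.prime_three (by rw [hK])
    rcases (show m = 3 ∨ m = 4 ∨ m = 5 ∨ m = 6 ∨ 7 ≤ m by omega) with rfl | rfl | rfl | rfl | h7
    · rw [hK] at h1
      exact sieve_oddP hK (by decide) (by norm_num) (by decide) 3 1 Nat.prime_three le_rfl (by norm_num)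
        (by norm_num) [2, 5, 7, 13] (by norm_num) TabP.po7_3 hp hd hp3 (by simpa using h1)
    · rw [hK] at h1
      exact sieve_oddP hK (by decide) (by norm_num) (by decide) 3 1 Nat.prime_three le_rfl (by norm_num)
        (by norm_num) [2, 5, 7, 13, 41] (by norm_num) TabP.po9_3 hp hd hp3 (by simpa using h1)
    · have h4 := h2 (by omega)
      rw [hK] at h4
      exact sieve_oddP hK (by decide) (by norm_num) (by decide) 3 1 Nat.prime_three le_rfl (by norm_num)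
        (by norm_num) [2, 5, 7, 11, 13, 41, 61] (by norm_num) TabP.po11_3 hp hd hp3 (by simpa using h4)
    · have h4 := h2 (by omega)
      rw [hK] at h4
      exact sieve_oddP hK (by decide) (by norm_num) (by decide) 3 1 Nat.prime_three le_rfl (by norm_num)
        (by norm_num) [2, 5, 7, 11, 13, 41, 61, 73] (by norm_num) TabP.po13_3 hp hd hp3 (by simpa using h4)
    · have h4 := h2 (by omega)
      have h5 := odd_condP h3 h7
      refine deadP_odd_size hp hm ho (by omega) (two_mul_le (by omega) (pow_le_B h3 (by omega)))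
  · rcases (show m = 3 ∨ m = 4 ∨ m = 5 ∨ m = 6 ∨ 7 ≤ m by omega) with rfl | rfl | rfl | rfl | h7
    · have h5 : Fintype.card K * (2 * 3 ^ 2 + 3 + 1) + 4 ≤ Fintype.card K ^ 3 := by
        obtain ⟨t, ht⟩ : ∃ t, Fintype.card K = t + 5 := ⟨Fintype.card K - 5, by omega⟩
        rw [ht]
        nlinarith [Nat.zero_le t, Nat.zero_le (t ^ 2), Nat.zero_le (t ^ 3)]
      exact deadP_odd_size hp hm ho (by omega) (two_mul_le (by omega) (pow_le_A (by omega) (by omega)))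
    · rcases (show Fintype.card K = 5 ∨ 7 ≤ Fintype.card K by
        obtain ⟨k, hk⟩ := ho
        omega) with hK5 | hK7
      · have hp5 : p ≠ 5 := hpr 5 (by norm_num) (by rw [hK5])
        rw [hK5] at h1
        exact sieve_oddP hK5 (by decide) (by norm_num) (by decide) 5 1 (by norm_num) le_rfl (by norm_num)
          (by norm_num) [2, 3, 7, 13, 31, 313] (by norm_num) TabP.po9_5 hp hd hp5 (by simpa using h1)
      · have h5 : Fintype.card K * (2 * 4 ^ 2 + 4 + 1) + 4 ≤ Fintype.card K ^ 3 := by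
          obtain ⟨t, ht⟩ : ∃ t, Fintype.card K = t + 7 := ⟨Fintype.card K - 7, by omega⟩
          rw [ht]
          nlinarith [Nat.zero_le t, Nat.zero_le (t ^ 2), Nat.zero_le (t ^ 3)]
        exact deadP_odd_size hp hm ho (by omega) (two_mul_le (by omega) (pow_le_A (by omega) (by omega)))
    · have h4 := h2 (by omega)
      have h5 : Fintype.card K * (2 * 5 ^ 2 + 5 + 1) + 4 ≤ Fintype.card K ^ (5 - 1) := by
        obtain ⟨t, ht⟩ : ∃ t, Fintype.card K = t + 5 := ⟨Fintype.card K - 5, by omega⟩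
        rw [ht]
        norm_num
        nlinarith [Nat.zero_le t, Nat.zero_le (t ^ 2), Nat.zero_le (t ^ 3), Nat.zero_le (t ^ 4)]
      exact deadP_odd_size hp hm ho (by omega) (two_mul_le (by omega) (pow_le_A (by omega) (by omega)))
    · have h4 := h2 (by omega)
      have h5 : Fintype.card K * (2 * 6 ^ 2 + 6 + 1) + 4 ≤ Fintype.card K ^ (6 - 1) := by
        obtain ⟨t, ht⟩ : ∃ t, Fintype.card K = t + 5 := ⟨Fintype.card K - 5, by omega⟩
        rw [ht]
        norm_num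
        nlinarith [Nat.zero_le t, Nat.zero_le (t ^ 2), Nat.zero_le (t ^ 3), Nat.zero_le (t ^ 4), Nat.zero_le (t ^ 5)]
      exact deadP_odd_size hp hm ho (by omega) (two_mul_le (by omega) (pow_le_A (by omega) (by omega)))
    · have h4 := h2 (by omega)
      have h5 := odd_condP h3 h7
      exact deadP_odd_size hp hm ho (by omega) (two_mul_le (by omega) (pow_le_B h3 (by omega)))

end odd

/-! ### `PΩ⁺_{2m}(s)` -/

section plus

variable {K : Type} [Field K] [Fintype K] {m : ℕ}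

theorem deadP_plus_size {n p b : ℕ} (hp : p.Prime) (hb : b ≤ p) (hm : 4 ≤ m) (hn : 2 ≤ n)
    (h : 288 * Fintype.card K ^ (2 * (2 * m ^ 2 - m + 1)) ≤ b ^ (n - 2)) :
    DeadP p n (Cfsg.POmega K (Cfsg.quadFormPlus m K)) := by
  refine deadP_of_pow (b := b) (A := 12 * Fintype.card K ^ (2 * m ^ 2 - m + 1)) hp hn hb (aut_plus hm)
    Nat.card_pos ?_
  rw [mul_pow, ← pow_mul, mul_comm (2 * m ^ 2 - m + 1) 2]
  refine le_trans (le_of_eq ?_) h
  ring

theorem sieve_plusP {n p m s o A n₀ : ℕ} (hs : Fintype.card K = s) (hm : 4 ≤ m)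
    (ho : Nat.gcd 4 (s ^ m - 1) * o = s ^ (m * (m - 1)) * (s ^ m - 1) * ∏ i ∈ Finset.range (m - 1), (s ^ (2 * (i + 1)) - 1))
    (r f : ℕ) (hr : r.Prime) (hf : 1 ≤ f) (hK : s = r ^ f)
    (hA : (if m = 4 then 3 else 1) * (if r = 2 then 2 else (if Even (m * (r ^ f - 1) / 2) then 8 else 4)) * f * o = A)
    (ps : List ℕ)
    (hps : ∀ t ∈ r :: ps, t.Prime) (h : chkP r ps o A n₀ = true) (hp : p.Prime)
    (hd : p ∣ Nat.card (Cfsg.POmega K (Cfsg.quadFormPlus m K))) (hpr : p ≠ r) (hn : n₀ ≤ n) :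
    DeadP p n (Cfsg.POmega K (Cfsg.quadFormPlus m K)) := by
  have := Fact.mk hr
  have h2 := Cfsg.Agent.S0293.result (F := K) hs m hm
  have hpos : 0 < Nat.gcd 4 (s ^ m - 1) := Nat.gcd_pos_of_pos_left _ (by norm_num)
  have ho' : Nat.card (Cfsg.POmega K (Cfsg.quadFormPlus m K)) = o :=
    Nat.eq_of_mul_eq_mul_left hpos (h2.trans ho.symm)
  have h3 := Cfsg.Agent.S0817.result (F := K) r f hf (hs.trans hK) m hm
  refine deadP_sieve r ps ho' ?_ hps h hp hd hpr hn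
  rw [h3, ho', hA]

theorem plus_condP {s m : ℕ} (hs : 3 ≤ s) (hm : 7 ≤ m) : (s + 1) * (2 * m ^ 2) + 12 ≤ s ^ (m - 1) := by
  obtain ⟨t, rfl⟩ : ∃ t, s = t + 3 := ⟨s - 3, by omega⟩
  induction m, hm using Nat.le_induction with
  | base =>
    norm_num
    nlinarith [Nat.zero_le t, Nat.zero_le (t ^ 2), Nat.zero_le (t ^ 3), Nat.zero_le (t ^ 4), Nat.zero_le (t ^ 5),
      Nat.zero_le (t ^ 6)]
  | succ m hm ih =>
    have h1 : m + 1 - 1 = (m - 1) + 1 := by omega
    rw [h1, pow_succ]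
    have h2 : ((t + 3 + 1) * (2 * m ^ 2) + 12) * 3 ≤ (t + 3) ^ (m - 1) * (t + 3) :=
      Nat.mul_le_mul ih (by omega)
    refine le_trans ?_ h2
    have h3 : 2 * (m + 1) ^ 2 ≤ 3 * (2 * m ^ 2) := by nlinarith
    have h4 : (t + 3 + 1) * (2 * (m + 1) ^ 2) ≤ (t + 3 + 1) * (3 * (2 * m ^ 2)) :=
      Nat.mul_le_mul_left _ h3
    calc (t + 3 + 1) * (2 * (m + 1) ^ 2) + 12
        ≤ (t + 3 + 1) * (3 * (2 * m ^ 2)) + 36 := by omega
      _ = ((t + 3 + 1) * (2 * m ^ 2) + 12) * 3 := by ring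

theorem plus_cond_twoP {m : ℕ} (hm : 9 ≤ m) : 2 * (9 + 4 * m ^ 2) + 9 ≤ 3 * 2 ^ (m - 1) + 3 * m := by
  induction m, hm using Nat.le_induction with
  | base => norm_num
  | succ m hm ih =>
    have h1 : m + 1 - 1 = (m - 1) + 1 := by omega
    have h6 : 2 ^ (m - 1 + 1) = 2 * 2 ^ (m - 1) := by ring
    rw [h1, h6]
    have h4 : (m + 1) ^ 2 = m ^ 2 + 2 * m + 1 := by ring
    have h5 : 20 * m ≤ 8 * m ^ 2 := by nlinarith
    rw [h4]
    omega

theorem mul_le_of {a N : ℕ} (hN : 9 ≤ N) (h : a ≤ 2 ^ (N - 9)) : 288 * a ≤ 2 ^ N := by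
  obtain ⟨k, rfl⟩ : ∃ k, N = k + 9 := ⟨N - 9, by omega⟩
  rw [Nat.add_sub_cancel] at h
  rw [pow_add]
  omega

theorem deadP_plus {n p : ℕ} (hp : p.Prime) (hd : p ∣ Nat.card (Cfsg.POmega K (Cfsg.quadFormPlus m K)))
    (hpr : ∀ r, r.Prime → r ∣ Fintype.card K → p ≠ r) (hm : 4 ≤ m) (hn : 13 ≤ n)
    (h1 : ¬ (m = 4 ∧ Fintype.card K = 2) → Fintype.card K ^ 3 - 1 ≤ n)
    (h2 : ¬ (m = 4 ∧ Fintype.card K = 2) → Fintype.card K ^ (m - 1) - 1 ≤ n) :
    DeadP p n (Cfsg.POmega K (Cfsg.quadFormPlus m K)) := by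
  have h6 : 1 < Fintype.card K := Fintype.one_lt_card
  rcases (show Fintype.card K = 2 ∨ Fintype.card K = 3 ∨ 4 ≤ Fintype.card K by omega) with hK | hK | hK
  · have hp2 : p ≠ 2 := hpr 2 Nat.prime_two (by rw [hK])
    rcases (show m = 4 ∨ m = 5 ∨ m = 6 ∨ m = 7 ∨ m = 8 ∨ 9 ≤ m by omega) with rfl | rfl | rfl | rfl | rfl | h9
    · exact sieve_plusP hK (by norm_num) (by decide) 2 1 Nat.prime_two le_rfl (by norm_num) (by norm_num)
        [3, 5, 7] (by norm_num) TabP.pop8_2 hp hd hp2 hn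
    · have h3 := h2 (by omega)
      rw [hK] at h3
      exact sieve_plusP hK (by norm_num) (by decide) 2 1 Nat.prime_two le_rfl (by norm_num) (by norm_num)
        [3, 5, 7, 17, 31] (by norm_num) TabP.pop10_2 hp hd hp2 h3
    · have h3 := h2 (by omega)
      rw [hK] at h3
      exact sieve_plusP hK (by norm_num) (by decide) 2 1 Nat.prime_two le_rfl (by norm_num) (by norm_num)
        [3, 5, 7, 11, 17, 31] (by norm_num) TabP.pop12_2 hp hd hp2 h3
    · have h3 := h2 (by omega)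
      rw [hK] at h3
      exact sieve_plusP hK (by norm_num) (by decide) 2 1 Nat.prime_two le_rfl (by norm_num) (by norm_num)
        [3, 5, 7, 11, 13, 17, 31, 127] (by norm_num) TabP.pop14_2 hp hd hp2 h3
    · have h3 := h2 (by omega)
      rw [hK] at h3
      exact sieve_plusP hK (by norm_num) (by decide) 2 1 Nat.prime_two le_rfl (by norm_num) (by norm_num)
        [3, 5, 7, 11, 13, 17, 31, 43, 127] (by norm_num) TabP.pop16_2 hp hd hp2 h3
    · have h3 := h2 (by omega)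
      rw [hK] at h3
      have h4 := plus_cond_twoP h9
      have h5 : m ≤ 2 * m ^ 2 := by nlinarith
      refine deadP_plus_size (b := 3) hp (by have := hp.two_le; omega) hm (by omega) ?_
      rw [hK]
      calc 288 * 2 ^ (2 * (2 * m ^ 2 - m + 1)) ≤ 2 ^ 9 * 2 ^ (2 * (2 * m ^ 2 - m + 1)) :=
            Nat.mul_le_mul_right _ (by norm_num)
        _ = 2 ^ (9 + 2 * (2 * m ^ 2 - m + 1)) := (pow_add _ _ _).symm
        _ ≤ 3 ^ (n - 2) := pow_le_C (by omega)
  · have hp3 : p ≠ 3 := hpr 3 Nat.prime_three (by rw [hK])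
    have h3 := h2 (by omega)
    have h4 := h1 (by omega)
    rcases (show m = 4 ∨ m = 5 ∨ m = 6 ∨ 7 ≤ m by omega) with rfl | rfl | rfl | h7
    · rw [hK] at h4
      exact sieve_plusP hK (by norm_num) (by decide) 3 1 Nat.prime_three le_rfl (by norm_num) (by norm_num)
        [2, 5, 7, 13] (by norm_num) TabP.pop8_3 hp hd hp3 (by simpa using h4)
    · rw [hK] at h3
      exact sieve_plusP hK (by norm_num) (by decide) 3 1 Nat.prime_three le_rfl (by norm_num) (by norm_num)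
        [2, 5, 7, 11, 13, 41] (by norm_num) TabP.pop10_3 hp hd hp3 (by simpa using h3)
    · rw [hK] at h3
      refine deadP_plus_size (b := 2) hp hp.two_le hm (by omega) ?_
      rw [hK]
      have h5 : 240 ≤ n - 2 := by
        norm_num at h3
        omega
      refine le_trans ?_ (Nat.pow_le_pow_right (by norm_num) h5)
      norm_num
    · have h5 := plus_condP (s := Fintype.card K) (by omega) h7
      have h9 : m ≤ 2 * m ^ 2 := by nlinarith
      have h8 : (Fintype.card K + 1) * (2 * m ^ 2 - m + 1) ≤ (Fintype.card K + 1) * (2 * m ^ 2) :=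
        Nat.mul_le_mul_left _ (by omega)
      exact deadP_plus_size (b := 2) hp hp.two_le hm (by omega)
        (mul_le_of (by omega) (pow_le_B (by omega) (by omega)))
  · have h3 := h2 (by omega)
    have h4 := h1 (by omega)
    rcases (show m = 4 ∨ m = 5 ∨ m = 6 ∨ 7 ≤ m by omega) with rfl | rfl | rfl | h7
    · rcases (show Fintype.card K = 4 ∨ Fintype.card K = 5 ∨ Fintype.card K = 6 ∨ 7 ≤ Fintype.card K by omega) with
        hK4 | hK5 | hK6 | hK7
      · have hp2 : p ≠ 2 := hpr 2 Nat.prime_two (by rw [hK4]; norm_num)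
        rw [hK4] at h4
        exact sieve_plusP hK4 (by norm_num) (by decide) 2 2 Nat.prime_two (by norm_num) (by norm_num) (by norm_num)
          [3, 5, 7, 13, 17] (by norm_num) TabP.pop8_4 hp hd hp2 (by simpa using h4)
      · have hp5 : p ≠ 5 := hpr 5 (by norm_num) (by rw [hK5])
        rw [hK5] at h4
        exact sieve_plusP hK5 (by norm_num) (by decide) 5 1 (by norm_num) le_rfl (by norm_num) (by norm_num)
          [2, 3, 7, 13, 31] (by norm_num) TabP.pop8_5 hp hd hp5 (by simpa using h4)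
      · exfalso
        obtain ⟨r, f, hr, hf, hKr, -⟩ := exists_char K
        rw [hK6] at hKr
        have e2 : 2 = r := (Nat.prime_dvd_prime_iff_eq Nat.prime_two hr).1
          (Nat.prime_two.dvd_of_dvd_pow (n := f) (by rw [← hKr]; norm_num))
        have e3 : 3 = r := (Nat.prime_dvd_prime_iff_eq Nat.prime_three hr).1
          (Nat.prime_three.dvd_of_dvd_pow (n := f) (by rw [← hKr]; norm_num))
        omega
      · have h5 : Fintype.card K * (2 * 4 ^ 2 - 4 + 1) + 12 ≤ Fintype.card K ^ 3 := by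
          obtain ⟨t, ht⟩ : ∃ t, Fintype.card K = t + 7 := ⟨Fintype.card K - 7, by omega⟩
          rw [ht]
          norm_num
          nlinarith [Nat.zero_le t, Nat.zero_le (t ^ 2), Nat.zero_le (t ^ 3)]
        exact deadP_plus_size (b := 2) hp hp.two_le hm (by omega)
          (mul_le_of (by omega) (pow_le_A (by omega) (by omega)))
    · have h5 : Fintype.card K * (2 * 5 ^ 2 - 5 + 1) + 12 ≤ Fintype.card K ^ (5 - 1) := by
        obtain ⟨t, ht⟩ : ∃ t, Fintype.card K = t + 4 := ⟨Fintype.card K - 4, by omega⟩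
        rw [ht]
        norm_num
        nlinarith [Nat.zero_le t, Nat.zero_le (t ^ 2), Nat.zero_le (t ^ 3), Nat.zero_le (t ^ 4)]
      exact deadP_plus_size (b := 2) hp hp.two_le hm (by omega)
        (mul_le_of (by omega) (pow_le_A (by omega) (by omega)))
    · have h5 : Fintype.card K * (2 * 6 ^ 2 - 6 + 1) + 12 ≤ Fintype.card K ^ (6 - 1) := by
        obtain ⟨t, ht⟩ : ∃ t, Fintype.card K = t + 4 := ⟨Fintype.card K - 4, by omega⟩
        rw [ht]
        norm_num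
        nlinarith [Nat.zero_le t, Nat.zero_le (t ^ 2), Nat.zero_le (t ^ 3), Nat.zero_le (t ^ 4), Nat.zero_le (t ^ 5)]
      exact deadP_plus_size (b := 2) hp hp.two_le hm (by omega)
        (mul_le_of (by omega) (pow_le_A (by omega) (by omega)))
    · have h5 := plus_condP (s := Fintype.card K) (by omega) h7
      have h9 : m ≤ 2 * m ^ 2 := by nlinarith
      have h8 : (Fintype.card K + 1) * (2 * m ^ 2 - m + 1) ≤ (Fintype.card K + 1) * (2 * m ^ 2) :=
        Nat.mul_le_mul_left _ (by omega)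
      exact deadP_plus_size (b := 2) hp hp.two_le hm (by omega)
        (mul_le_of (by omega) (pow_le_B (by omega) (by omega)))

end plus

section main

variable {F : Type u} [Field F] [Finite F] {n p : ℕ} [Fact p.Prime] [CharP F p]
  {P : Subgroup (Matrix.GeneralLinearGroup (Fin n) F)}

open Cfsg.Agent.H936.List12 Cfsg.Agent.H912.Bd

theorem ne_of_char {K : Type} [Field K] [Fintype K] {r p : ℕ} (hr : r.Prime) (hch : CharP K r) (hne : p ≠ r) :
    ∀ t : ℕ, t.Prime → t ∣ Fintype.card K → p ≠ t := by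
  intro t ht hd
  have := Fact.mk hr
  obtain ⟨f, -, hf⟩ := FiniteField.card K r
  rw [hf] at hd
  rw [(Nat.prime_dvd_prime_iff_eq ht hr).1 (ht.dvd_of_dvd_pow hd)]
  exact hne

/-- **PB4** -/
theorem deadP_omega_odd (hC : Core P) (_hn : 13 ≤ n) (hp : p ∣ Nat.card (Soc P))
    (hL : ¬ Cfsg.IsLieTypeChar p (Soc P)) (hT : Cfsg.IsPOmegaOdd (Soc P)) : DeadP p n (Soc P) := by
  obtain ⟨K, _, _, m, hm, ho, ⟨e⟩⟩ := hT
  obtain ⟨r, f, hr, hf, hK, hch⟩ := exists_char K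
  have hrs : r ∣ Fintype.card K := by rw [hK]; exact dvd_pow_self r (by omega)
  have hcard : Nat.card (Soc P) = Nat.card (Cfsg.POmega K (Cfsg.quadFormOdd m K)) := Nat.card_congr e.toEquiv
  have hrp : r ≠ p := by
    rintro rfl
    exact hL (Or.inr (Or.inr (Or.inr (Or.inl ⟨K, _, _, hch, m, hm, ho, ⟨e⟩⟩))))
  have hrF : (r : F) ≠ 0 := cast_ne hr hrp
  refine DeadP.congr e.symm ?_
  rw [hcard] at hp
  have hpp : p.Prime := Fact.out
  by_cases h33 : m = 3 ∧ Fintype.card K = 3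
  · obtain ⟨rfl, hK3⟩ := h33
    have hr3 : r = 3 := by
      have h : r ∣ 3 := by rw [← hK3]; exact hrs
      exact (Nat.prime_dvd_prime_iff_eq hr Nat.prime_three).1 h
    subst hr3
    have h26 := le_of_ls' hC hrF (H95.LSx.ls_o73 hK3) ⟨e⟩
    refine deadP_odd hpp hp (ne_of_char hr hch hrp.symm) hm ho (by rw [hK3]; norm_num; exact h26)
      (fun h => absurd ⟨rfl, hK3⟩ h)
  · have hN : NoR.{u} r (Cfsg.POmega K (Cfsg.quadFormOdd m K)) := by
      refine NoR.of_cyclic (S2094.result (F := K) rfl ho m hm h33) ?_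
      rw [Nat.coprime_two_left]
      exact Odd.of_dvd_nat ho hrs
    exact deadP_odd hpp hp (ne_of_char hr hch hrp.symm) hm ho
      (le_of_bd hC (bd_pomega_odd_cube hr hrF hch hm) hN ⟨e⟩)
      (fun _ => le_of_bd hC (bd_pomega_odd_sl hr hrF hch hm) hN ⟨e⟩)

/-- **PB5** -/
theorem deadP_omega_plus (hC : Core P) (hn : 13 ≤ n) (hp : p ∣ Nat.card (Soc P))
    (hL : ¬ Cfsg.IsLieTypeChar p (Soc P)) (hT : Cfsg.IsPOmegaPlus (Soc P)) : DeadP p n (Soc P) := by
  obtain ⟨K, iK, iKf, m, hm, ⟨e⟩⟩ := hT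
  obtain ⟨r, f, hr, hf, hK, hch⟩ := exists_char K
  have hrs : r ∣ Fintype.card K := by rw [hK]; exact dvd_pow_self r (by omega)
  have hcard : Nat.card (Soc P) = Nat.card (Cfsg.POmega K (Cfsg.quadFormPlus m K)) := Nat.card_congr e.toEquiv
  have hrp : r ≠ p := by
    rintro rfl
    exact hL (Or.inr (Or.inr (Or.inr (Or.inr (Or.inl ⟨K, iK, iKf, hch, m, hm, ⟨e⟩⟩)))))
  have hrF : (r : F) ≠ 0 := cast_ne hr hrp
  refine DeadP.congr e.symm ?_
  rw [hcard] at hp
  have hpp : p.Prime := Fact.out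
  have hN : ¬ (m = 4 ∧ Fintype.card K = 2) → NoR.{u} r (Cfsg.POmega K (Cfsg.quadFormPlus m K)) :=
    fun h => noR_plus hr hrs hm h
  exact deadP_plus hpp hp (ne_of_char hr hch hrp.symm) hm hn
    (fun h => le_of_bd hC (bd_pomega_plus_cube hr hrF hch (by omega)) (hN h) ⟨e⟩)
    (fun h => le_of_bd hC (bd_pomega_plus_sl hr hrF hch (by omega)) (hN h) ⟨e⟩)

end main

end Cfsg.Agent.H576.HT
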